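import Mathlib

set_option autoImplicit false

namespace Cfsg.Agent.Lib.Helper1.MEO

def tnum (q : ℕ) (d : ℕ × Bool) : ℕ := if d.2 then q ^ d.1 + 1 else q ^ d.1 - 1

end Cfsg.Agent.Lib.Helper1.MEO
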