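import Mathlib
import Cfsg.Agent.Lib.Helper1.MEO.Defs

set_option autoImplicit false

namespace Cfsg.Agent.Lib.Helper1.MEO

theorem pow_tnum_eq_one {K : Type*} [Field K] (q : ℕ) (x : K) (hx : x ≠ 0) (d : ℕ × Bool)
    (h : x ^ (q ^ d.1) = if d.2 then x⁻¹ else x) : x ^ (tnum q d) = 1 := by
  unfold tnum
  by_cases hd : d.2 = true
  · rw [if_pos hd] at h ⊢
    rw [pow_succ, h, inv_mul_cancel₀ hx]
  · rw [if_neg hd] at h ⊢
    rcases Nat.eq_zero_or_pos (q ^ d.1) with h0 | hpos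
    · rw [h0, Nat.zero_sub, pow_zero]
    · have h2 : x ^ (q ^ d.1 - 1) * x = x := by
        rw [← pow_succ, Nat.sub_add_cancel hpos, h]
      have h3 : x ^ (q ^ d.1 - 1) * x = 1 * x := by rw [h2, one_mul]
      exact mul_right_cancel₀ hx h3

theorem pow_tnum_lcm_eq_one {K : Type*} [Field K] (q : ℕ) (D : Finset (ℕ × Bool)) (x : K)
    (hx : x ≠ 0) (d : ℕ × Bool) (hd : d ∈ D)
    (h : x ^ (q ^ d.1) = if d.2 then x⁻¹ else x) : x ^ (D.lcm (tnum q)) = 1 := by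
  obtain ⟨k, hk⟩ : tnum q d ∣ D.lcm (tnum q) := Finset.dvd_lcm hd
  rw [hk, pow_mul, pow_tnum_eq_one q x hx d h, one_pow]

theorem clog_bounds (p : ℕ) (hp : 2 ≤ p) (μ : ℕ) (hμ : 1 ≤ μ) :
    μ ≤ p ^ Nat.clog p μ ∧ p ^ Nat.clog p μ ≤ p ^ (μ - 1) ∧
      p ^ Nat.clog p μ ≤ p ^ ((μ + 1) / 2) := by
  have hp1 : 1 < p := by omega
  refine ⟨Nat.le_pow_clog hp1 μ, ?_, ?_⟩
  · apply Nat.pow_le_pow_right (by omega)
    apply Nat.clog_le_of_le_pow
    calc μ ≤ 2 ^ (μ - 1) := by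
          have := Nat.lt_two_pow_self (n := μ - 1)
          omega
      _ ≤ p ^ (μ - 1) := Nat.pow_le_pow_left hp _
  · apply Nat.pow_le_pow_right (by omega)
    apply Nat.clog_le_of_le_pow
    have h2 : ∀ k : ℕ, 2 * k ≤ 2 ^ k := by
      intro k
      induction k with
      | zero => norm_num
      | succ n ih =>
        rw [pow_succ]
        rcases n with _ | n
        · norm_num
        · have : 1 ≤ 2 ^ n := Nat.one_le_two_pow
          have h4 : 2 ^ (n + 1) = 2 * 2 ^ n := by ring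
          omega
    calc μ ≤ 2 * ((μ + 1) / 2) := by omega
      _ ≤ 2 ^ ((μ + 1) / 2) := h2 _
      _ ≤ p ^ ((μ + 1) / 2) := Nat.pow_le_pow_left hp _

end Cfsg.Agent.Lib.Helper1.MEO
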