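import Mathlib
import Cfsg.Agent.Lib.Helper1.MEO.Defs
import Cfsg.Agent.Lib.Helper1.MEO.Small
import Cfsg.Agent.Lib.Helper27.MEOA
import Cfsg.Agent.Lib.Helper9.MEOB
import Cfsg.Agent.Lib.Helper19.MEOC
import Cfsg.Agent.Lib.Helper19.MEOD

set_option autoImplicit false

namespace Cfsg.Agent.Lib.Helper1.MEO

theorem g1_hinj {K : Type*} [Field K] (p : ℕ) [Fact p.Prime] [CharP K p] (f : ℕ) (q : ℕ)
    (hq : q = p ^ f) (x y : K) (h : x ^ q = y ^ q) : x = y := by
  have hinj : Function.Injective (iterateFrobenius K p f) := (iterateFrobenius K p f).injective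
  apply hinj
  rw [iterateFrobenius_def, iterateFrobenius_def, ← hq]
  exact h

theorem g1_sq_eq_one {K : Type*} [Field K] (x : K) (h : x ^ 2 = 1) : x = 1 ∨ x = -1 := by
  have h1 : (x - 1) * (x + 1) = 0 := by linear_combination h
  rcases mul_eq_zero.mp h1 with h2 | h2
  · left; linear_combination h2
  · right; linear_combination h2

theorem g1_final (q p N a M e m : ℕ) (hq : 1 ≤ q) (hpq : p ≤ q)
    (hB : (q - 1) * N ≤ q ^ (M + 1)) (ha : p ^ a ≤ p ^ e) (hme : M + e ≤ m) :
    (q - 1) * (N * p ^ a) ≤ q ^ (m + 1) := by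
  calc (q - 1) * (N * p ^ a) = ((q - 1) * N) * p ^ a := by ring
    _ ≤ q ^ (M + 1) * q ^ e :=
      Nat.mul_le_mul hB (ha.trans (Nat.pow_le_pow_left hpq e))
    _ = q ^ (M + 1 + e) := by rw [← pow_add]
    _ ≤ q ^ (m + 1) := Nat.pow_le_pow_right hq (by omega)

theorem g1_tnum_pos (q : ℕ) (hq : 2 ≤ q) (d : ℕ × Bool) (hd : 1 ≤ d.1) : 0 < tnum q d := by
  unfold tnum
  split_ifs
  · positivity
  · have : q ^ 1 ≤ q ^ d.1 := Nat.pow_le_pow_right (by omega) hd
    rw [pow_one] at this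
    omega

theorem g1_tnum_even (q : ℕ) (hq : Odd q) (d : ℕ × Bool) : 2 ∣ tnum q d := by
  unfold tnum
  have h1 : Odd (q ^ d.1) := hq.pow
  obtain ⟨k, hk⟩ := h1
  split_ifs
  · exact ⟨k + 1, by omega⟩
  · exact ⟨k, by omega⟩

theorem core_bound {K : Type*} [Field K] [DecidableEq K] (p : ℕ) [Fact p.Prime] [CharP K p]
    (f : ℕ) (hf : 1 ≤ f) (q : ℕ) (hq : q = p ^ f) (m : ℕ)
    (R : Finset K) (μ : K → ℕ)
    (hμ : ∀ x ∈ R, 1 ≤ μ x)
    (h0 : (0 : K) ∉ R)
    (hfr : ∀ x ∈ R, x ^ q ∈ R ∧ μ (x ^ q) = μ x)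
    (hin : ∀ x ∈ R, x⁻¹ ∈ R ∧ μ x⁻¹ = μ x)
    (hsum : ∑ x ∈ R, μ x = 2 * m)
    (hpar : (-1 : K) ≠ 1 → (-1 : K) ∈ R → Even (μ (-1))) :
    ∃ (N a : ℕ) (c : K), 0 < N ∧ (c = 1 ∨ (c = -1 ∧ ∀ x ∈ R, x = -1)) ∧ (∀ x ∈ R, x ^ N = c) ∧
      (∀ x ∈ R, μ x ≤ p ^ a) ∧ (q - 1) * (N * p ^ a) ≤ q ^ (m + 1) := by
  have hpp : p.Prime := Fact.out
  have hp2 : 2 ≤ p := hpp.two_le
  have hpq : p ≤ q := by
    rw [hq]
    calc p = p ^ 1 := (pow_one p).symm
      _ ≤ p ^ f := Nat.pow_le_pow_right hpp.pos hf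
  have hq2 : 2 ≤ q := hp2.trans hpq
  have hq1 : 1 ≤ q := by omega
  have hinj : ∀ x y : K, x ^ q = y ^ q → x = y := g1_hinj p f q hq
  rcases R.eq_empty_or_nonempty with hRe | hRne
  · subst hRe
    refine ⟨1, 0, 1, Nat.one_pos, Or.inl rfl, ?_, ?_, ?_⟩
    · intro x hx; exact absurd hx (Finset.notMem_empty x)
    · intro x hx; exact absurd hx (Finset.notMem_empty x)
    · simp only [pow_zero, mul_one]
      calc q - 1 ≤ q ^ 1 := by rw [pow_one]; omega
        _ ≤ q ^ (m + 1) := Nat.pow_le_pow_right hq1 (by omega)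
  obtain ⟨xs, hxsR, hxsmax⟩ := Finset.exists_max_image R μ hRne
  set μs := μ xs with hμs
  have hμs1 : 1 ≤ μs := hμ xs hxsR
  obtain ⟨hc1, hc2, hc3⟩ := clog_bounds p hp2 μs hμs1
  set a := Nat.clog p μs with ha
  have hRa : ∀ x ∈ R, μ x ≤ p ^ a := fun x hx => (hxsmax x hx).trans hc1
  set X := R.filter (fun x => x ^ 2 ≠ 1) with hX
  set Y := R.filter (fun x => ¬ x ^ 2 ≠ 1) with hY
  have hsplit : ∑ x ∈ X, μ x + ∑ x ∈ Y, μ x = 2 * m := by
    rw [hX, hY, Finset.sum_filter_add_sum_filter_not, hsum]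
  have hmemX : ∀ x, x ∈ X ↔ x ∈ R ∧ x ^ 2 ≠ 1 := fun x => by rw [hX, Finset.mem_filter]
  have hmemY : ∀ x, x ∈ Y ↔ x ∈ R ∧ x ^ 2 = 1 := fun x => by
    rw [hY, Finset.mem_filter, not_not]
  have hX0 : ∀ x ∈ X, x ≠ 0 := fun x hx h => h0 (h ▸ ((hmemX x).mp hx).1)
  have hX1 : ∀ x ∈ X, x ^ 2 ≠ 1 := fun x hx => ((hmemX x).mp hx).2
  have hXq : ∀ x ∈ X, x ^ q ∈ X := by
    intro x hx
    rw [hmemX] at hx ⊢
    refine ⟨(hfr x hx.1).1, fun h => hx.2 ?_⟩
    apply hinj
    rw [one_pow, ← pow_mul, mul_comm, pow_mul]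
    exact h
  have hXi : ∀ x ∈ X, x⁻¹ ∈ X := by
    intro x hx
    rw [hmemX] at hx ⊢
    refine ⟨(hin x hx.1).1, fun h => hx.2 ?_⟩
    rw [inv_pow, inv_eq_one] at h
    exact h
  obtain ⟨D, hD1, hDX, hDt⟩ := exists_types q hinj (exists_orbit q hinj) X hX0 hX1 hXq hXi
  set N0 := D.lcm (tnum q) with hN0
  set M := D.sum (fun d => d.1) with hM
  have hB : (q - 1) * N0 ≤ q ^ (M + 1) :=
    types_lcm_bound q hq2 (plus_lcm_bound q hq2) D hD1
  have hN0pos : 0 < N0 := by
    rw [Nat.pos_iff_ne_zero, hN0]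
    intro h
    rw [Finset.lcm_eq_zero_iff] at h
    obtain ⟨d, hd, hd0⟩ := h
    have := g1_tnum_pos q hq2 d (hD1 d hd)
    omega
  have hXN0 : ∀ x ∈ X, x ^ N0 = 1 := by
    intro x hx
    obtain ⟨d, hd, hdx⟩ := hDt x hx
    exact pow_tnum_lcm_eq_one q D x (hX0 x hx) d hd hdx
  have hXcard : X.card ≤ ∑ x ∈ X, μ x := by
    rw [Finset.card_eq_sum_ones]
    exact Finset.sum_le_sum (fun x hx => hμ x ((hmemX x).mp hx).1)
  have hYvals : ∀ x ∈ Y, x = 1 ∨ x = -1 := fun x hx => g1_sq_eq_one x ((hmemY x).mp hx).2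
  rcases X.eq_empty_or_nonempty with hXe | hXne
  · have hRY : ∀ x ∈ R, x = 1 ∨ x = -1 := by
      intro x hx
      apply hYvals
      rw [hmemY]
      refine ⟨hx, ?_⟩
      by_contra hne
      have : x ∈ X := (hmemX x).mpr ⟨hx, hne⟩
      rw [hXe] at this
      exact absurd this (Finset.notMem_empty x)
    have hYsum : ∑ x ∈ Y, μ x = 2 * m := by
      rw [hXe, Finset.sum_empty, zero_add] at hsplit
      exact hsplit
    have hYR : Y = R := by
      ext x
      rw [hmemY]
      constructor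
      · exact fun h => h.1
      · intro hx
        refine ⟨hx, ?_⟩
        rcases hRY x hx with h | h <;> rw [h] <;> norm_num
    rw [hYR] at hYsum
    have hμsle : μs ≤ 2 * m := by
      rw [← hYsum]
      exact Finset.single_le_sum (f := μ) (fun x _ => Nat.zero_le _) hxsR
    by_cases hboth : (-1 : K) ≠ 1 ∧ (-1 : K) ∈ R ∧ (1 : K) ∈ R
    · obtain ⟨hne1, hm1R, h1R⟩ := hboth
      have hR2 : R = {1, -1} := by
        ext x
        simp only [Finset.mem_insert, Finset.mem_singleton]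
        constructor
        · exact hRY x
        · rintro (rfl | rfl)
          · exact h1R
          · exact hm1R
      have hs2 : μ 1 + μ (-1) = 2 * m := by
        rw [← hYsum, hR2, Finset.sum_pair (Ne.symm hne1)]
      obtain ⟨k, hk⟩ := hpar hne1 hm1R
      have hk1 := hμ (-1) hm1R
      have hk2 := hμ 1 h1R
      have hμsle2 : μs ≤ 2 * m - 2 := by
        rcases hRY xs hxsR with h | h
        · rw [hμs, h]; omega
        · rw [hμs, h]; omega
      have hm2 : 2 ≤ m := by omega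
      refine ⟨2, a, 1, by norm_num, Or.inl rfl, ?_, hRa, ?_⟩
      · intro x hx
        rcases hRY x hx with h | h <;> rw [h] <;> norm_num
      · have he : (μs + 1) / 2 ≤ m - 1 := by omega
        have h3 : p ^ a ≤ q ^ (m - 1) :=
          (hc3.trans (Nat.pow_le_pow_right hpp.pos he)).trans (Nat.pow_le_pow_left hpq _)
        calc (q - 1) * (2 * p ^ a) ≤ q * (q * q ^ (m - 1)) :=
              Nat.mul_le_mul (by omega) (Nat.mul_le_mul hq2 h3)
          _ = q ^ (m - 1 + 2) := by ring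
          _ = q ^ (m + 1) := by congr 1; omega
    · have hbd : (q - 1) * (1 * p ^ a) ≤ q ^ (m + 1) := by
        have he : (μs + 1) / 2 ≤ m := by omega
        have h3 : p ^ a ≤ q ^ m :=
          (hc3.trans (Nat.pow_le_pow_right hpp.pos he)).trans (Nat.pow_le_pow_left hpq _)
        calc (q - 1) * (1 * p ^ a) ≤ q * q ^ m := by
              rw [one_mul]
              exact Nat.mul_le_mul (by omega) h3
          _ = q ^ (m + 1) := by ring
      by_cases h1R : (1 : K) ∈ R
      · have hall : ∀ x ∈ R, x = 1 := by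
          intro x hx
          rcases hRY x hx with h | h
          · exact h
          · by_cases hne1 : (-1 : K) = 1
            · rw [h, hne1]
            · exfalso
              exact hboth ⟨hne1, h ▸ hx, h1R⟩
        refine ⟨1, a, 1, Nat.one_pos, Or.inl rfl, ?_, hRa, hbd⟩
        intro x hx
        rw [hall x hx, one_pow]
      · have hall : ∀ x ∈ R, x = -1 := by
          intro x hx
          rcases hRY x hx with h | h
          · exact absurd (h ▸ hx) h1R
          · exact h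
        refine ⟨1, a, -1, Nat.one_pos, Or.inr ⟨rfl, hall⟩, ?_, hRa, hbd⟩
        intro x hx
        rw [hall x hx, pow_one]
  · have hRN0 : ∀ x ∈ R, x ^ N0 = 1 := by
      intro x hx
      by_cases hx2 : x ^ 2 = 1
      · rcases g1_sq_eq_one x hx2 with h | h
        · rw [h, one_pow]
        · rw [h]
          by_cases hne1 : (-1 : K) = 1
          · rw [hne1, one_pow]
          · have hpodd : p ≠ 2 := by
              intro hp
              apply hne1
              have : CharP K 2 := hp ▸ (inferInstance : CharP K p)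
              exact CharTwo.neg_eq (1 : K)
            have hqodd : Odd q := by
              rw [hq]
              exact (hpp.odd_of_ne_two hpodd).pow
            obtain ⟨x₁, hx₁⟩ := hXne
            obtain ⟨d, hd, -⟩ := hDt x₁ hx₁
            have h2N : 2 ∣ N0 := (g1_tnum_even q hqodd d).trans (Finset.dvd_lcm hd)
            obtain ⟨k, hk⟩ := h2N
            rw [hk, pow_mul]
            norm_num
      · exact hXN0 x ((hmemX x).mpr ⟨hx, hx2⟩)
    by_cases hxsX : xs ∈ X
    · have hxi := hXi xs hxsX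
      have hxine : xs⁻¹ ≠ xs := by
        intro h
        apply hX1 xs hxsX
        have hx0 := hX0 xs hxsX
        rw [pow_two]
        nth_rewrite 1 [← h]
        exact inv_mul_cancel₀ hx0
      have hμi : μ xs⁻¹ = μs := (hin xs hxsR).2
      have hXsum : X.card + 2 * (μs - 1) ≤ ∑ x ∈ X, μ x := by
        have h1 : ∑ x ∈ X, μ x = ∑ x ∈ X, (μ x - 1) + X.card := by
          rw [Finset.card_eq_sum_ones, ← Finset.sum_add_distrib]
          refine Finset.sum_congr rfl fun x hx => ?_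
          have := hμ x ((hmemX x).mp hx).1
          omega
        have h2 : ∑ x ∈ ({xs, xs⁻¹} : Finset K), (μ x - 1) ≤ ∑ x ∈ X, (μ x - 1) := by
          apply Finset.sum_le_sum_of_subset
          intro y hy
          simp only [Finset.mem_insert, Finset.mem_singleton] at hy
          rcases hy with rfl | rfl
          · exact hxsX
          · exact hxi
        rw [Finset.sum_pair (Ne.symm hxine), hμi] at h2
        omega
      refine ⟨N0, a, 1, hN0pos, Or.inl rfl, hRN0, hRa, ?_⟩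
      apply g1_final q p N0 a M (μs - 1) m hq1 hpq hB hc2
      have : 0 ≤ ∑ x ∈ Y, μ x := Nat.zero_le _
      omega
    · have hxsY : xs ∈ Y := by
        rw [hmemY]
        refine ⟨hxsR, ?_⟩
        by_contra hne
        exact hxsX ((hmemX xs).mpr ⟨hxsR, hne⟩)
      have hYsum : μs ≤ ∑ x ∈ Y, μ x :=
        Finset.single_le_sum (f := μ) (fun x _ => Nat.zero_le _) hxsY
      refine ⟨N0, a, 1, hN0pos, Or.inl rfl, hRN0, hRa, ?_⟩
      apply g1_final q p N0 a M ((μs + 1) / 2) m hq1 hpq hB hc3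
      omega

end Cfsg.Agent.Lib.Helper1.MEO
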