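import Mathlib
import Cfsg.Prelude.Def_Classical
import Cfsg.Agent.Lib.Helper1.MEO.G1
import Cfsg.Agent.Lib.Helper25.MEOE
import Cfsg.Agent.Lib.Helper25.MEOG2
import Cfsg.Agent.Lib.helper15.SpRegSemi
import Cfsg.Agent.S0246

set_option autoImplicit false

namespace Cfsg.Agent.Lib.Helper1.MEO

open Polynomial

theorem matrix_bound {F : Type*} [Field F] [Fintype F] {ι : Type*} [Fintype ι] [DecidableEq ι]
    (m : ℕ) (hι : Fintype.card ι = 2 * m) (A : Matrix ι ι F) (hdet : A.det = 1)
    (hinv : ∀ ν : AlgebraicClosure F, ν ≠ 0 →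
      (A.map (algebraMap F (AlgebraicClosure F))).charpoly.rootMultiplicity ν⁻¹ =
        (A.map (algebraMap F (AlgebraicClosure F))).charpoly.rootMultiplicity ν) :
    ∃ j : ℕ, 0 < j ∧ (A ^ j = 1 ∨ A ^ j = -1) ∧
      (Fintype.card F - 1) * j ≤ Fintype.card F ^ (m + 1) := by
  classical
  obtain ⟨p, hpc⟩ := CharP.exists F
  have : CharP F p := hpc
  have hpp : p.Prime := CharP.char_is_prime F p
  have : Fact p.Prime := ⟨hpp⟩
  have : CharP (AlgebraicClosure F) p :=
    charP_of_injective_algebraMap (algebraMap F (AlgebraicClosure F)).injective p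
  obtain ⟨n, -, hcard⟩ := FiniteField.card F p
  set K := AlgebraicClosure F with hK
  set AK := A.map (algebraMap F K) with hAK
  obtain ⟨h1, h2, h3, h4, h5, h6⟩ := roots_data (K := K) A hdet hinv
  have hne : AK.charpoly ≠ 0 := (Matrix.charpoly_monic AK).ne_zero
  obtain ⟨N, a, c, hN, hc, hRN, hRa, hbound⟩ := core_bound (K := K) p (n : ℕ) n.pos
    (Fintype.card F) hcard m AK.charpoly.roots.toFinset (fun x => AK.charpoly.rootMultiplicity x)
    h1 h2 h3 (fun x hx => ⟨h4 x hx, hinv x (fun h => h2 (h ▸ hx))⟩) (by rw [h5, hι])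
    (fun hne1 _ => h6 hne1)
  have hE := pow_eq_of_roots_mult p AK N a hN c
    (fun μ hμ => hRN μ (Multiset.mem_toFinset.mpr ((Polynomial.mem_roots hne).mpr hμ)))
    (fun μ => by
      by_cases hμ : μ ∈ AK.charpoly.roots.toFinset
      · exact hRa μ hμ
      · have : ¬ AK.charpoly.IsRoot μ := fun h =>
          hμ (Multiset.mem_toFinset.mpr ((Polynomial.mem_roots hne).mpr h))
        rw [Polynomial.rootMultiplicity_eq_zero this]
        exact Nat.zero_le _)
  have hinjM : Function.Injective
      (fun M : Matrix ι ι F => M.map (algebraMap F K)) :=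
    Matrix.map_injective (algebraMap F K).injective
  have hpow : (A ^ (N * p ^ a)).map (algebraMap F K) = AK ^ (N * p ^ a) := by
    rw [hAK]
    exact Matrix.map_pow A (algebraMap F K) (N * p ^ a)
  refine ⟨N * p ^ a, Nat.mul_pos hN (pow_pos hpp.pos _), ?_, hbound⟩
  have hcc : c ^ (p ^ a) = 1 ∨ c ^ (p ^ a) = -1 := by
    rcases hc with rfl | ⟨rfl, -⟩
    · left; exact one_pow _
    · exact neg_one_pow_eq_or K _
  rcases hcc with hcc | hcc
  · left
    apply hinjM
    change (A ^ (N * p ^ a)).map (algebraMap F K) = (1 : Matrix ι ι F).map (algebraMap F K)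
    rw [hpow, hE, hcc, one_smul, Matrix.map_one _ (map_zero _) (map_one _)]
  · right
    apply hinjM
    change (A ^ (N * p ^ a)).map (algebraMap F K) = (-1 : Matrix ι ι F).map (algebraMap F K)
    rw [hpow, hE, hcc]
    ext i j
    simp [Matrix.one_apply, Matrix.neg_apply]
    split_ifs <;> simp

theorem symp_hinv {F : Type*} [Field F] {K : Type*} [Field K] [Algebra F K] {l : Type*}
    [Fintype l] [DecidableEq l] (A : Matrix.symplecticGroup l F) (ν : K) (hν : ν ≠ 0) :
    ((A : Matrix (l ⊕ l) (l ⊕ l) F).map (algebraMap F K)).charpoly.rootMultiplicity ν⁻¹ =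
      ((A : Matrix (l ⊕ l) (l ⊕ l) F).map (algebraMap F K)).charpoly.rootMultiplicity ν := by
  have hmem : (A : Matrix (l ⊕ l) (l ⊕ l) F).map (algebraMap F K) ∈
      Matrix.symplecticGroup l K := by
    rw [SymplecticGroup.mem_iff]
    have h := (SymplecticGroup.mem_iff).mp A.2
    have hJ : (Matrix.J l F).map (algebraMap F K) = Matrix.J l K := by
      ext i j
      rcases i with i | i <;> rcases j with j | j <;>
        simp [Matrix.J, Matrix.one_apply, apply_ite]
    have h2 := congrArg (fun M : Matrix (l ⊕ l) (l ⊕ l) F => M.map (algebraMap F K)) h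
    simp only [Matrix.map_mul, Matrix.transpose_map, hJ] at h2
    exact h2
  exact Cfsg.Agent.Lib.helper15.SpRegSemi.mult_inv_symp ⟨_, hmem⟩ ν hν

theorem psp_bound {F : Type*} [Field F] [Fintype F] (m : ℕ) (g : Cfsg.PSp m F) :
    (Fintype.card F - 1) * orderOf g ≤ Fintype.card F ^ (m + 1) := by
  obtain ⟨A, rfl⟩ := QuotientGroup.mk_surjective g
  obtain ⟨j, hj, hA, hbound⟩ := matrix_bound m (by simp; ring)
    (A : Matrix (Fin m ⊕ Fin m) (Fin m ⊕ Fin m) F) (SymplecticGroup.det_eq_one A.2)
    (fun ν hν => symp_hinv A ν hν)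
  have hcen : A ^ j ∈ Subgroup.center (Matrix.symplecticGroup (Fin m) F) := by
    rcases hA with hA | hA
    · have : A ^ j = 1 := by
        apply Subtype.ext
        rw [SubmonoidClass.coe_pow, hA]
        rfl
      rw [this]
      exact Subgroup.one_mem _
    · have : A ^ j = Cfsg.Agent.S0246.negOne F m := by
        apply Subtype.ext
        rw [SubmonoidClass.coe_pow, hA]
        rfl
      rw [this]
      exact Cfsg.Agent.S0246.negOne_mem_center
  have hpow : (QuotientGroup.mk A : Cfsg.PSp m F) ^ j = 1 := by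
    rw [← QuotientGroup.mk_pow]
    exact (QuotientGroup.eq_one_iff _).mpr hcen
  have hle : orderOf (QuotientGroup.mk A : Cfsg.PSp m F) ≤ j :=
    Nat.le_of_dvd hj (orderOf_dvd_of_pow_eq_one hpow)
  calc (Fintype.card F - 1) * orderOf (QuotientGroup.mk A : Cfsg.PSp m F)
      ≤ (Fintype.card F - 1) * j := Nat.mul_le_mul_left _ hle
    _ ≤ _ := hbound

end Cfsg.Agent.Lib.Helper1.MEO
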