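import Mathlib
import Cfsg.Agent.Lib.Helper1.MEO.G1

set_option autoImplicit false

namespace Cfsg.Agent.Lib.Helper1.MEO

theorem odd_pairs_even {K : Type*} [Field K] [DecidableEq K] (X : Finset K) (μ : K → ℕ)
    (hX1 : ∀ x ∈ X, x ^ 2 ≠ 1) (hX0 : ∀ x ∈ X, x ≠ 0)
    (hXi : ∀ x ∈ X, x⁻¹ ∈ X ∧ μ x⁻¹ = μ x) : Even (∑ x ∈ X, μ x) := by
  rw [← ZMod.natCast_eq_zero_iff_even]
  push_cast
  apply Finset.sum_involution (fun x _ => x⁻¹)
  · intro x hx
    rw [(hXi x hx).2]
    exact CharTwo.add_self_eq_zero _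
  · intro x hx _ h
    apply hX1 x hx
    have hx0 := hX0 x hx
    rw [pow_two]
    nth_rewrite 1 [← h]
    exact inv_mul_cancel₀ hx0
  · intro x hx
    exact inv_inv x
  · intro x hx
    exact (hXi x hx).1

theorem odd_clog (p m : ℕ) (hp : 3 ≤ p) (hm : 3 ≤ m) : Nat.clog p (2 * m) ≤ m - 1 := by
  apply Nat.clog_le_of_le_pow
  have h3 : ∀ k : ℕ, 2 * (k + 3) ≤ 3 ^ (k + 2) := by
    intro k
    induction k with
    | zero => norm_num
    | succ n ih =>
      have : 3 ^ (n + 1 + 2) = 3 * 3 ^ (n + 2) := by ring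
      omega
  obtain ⟨k, rfl⟩ : ∃ k, m = k + 3 := ⟨m - 3, by omega⟩
  calc 2 * (k + 3) ≤ 3 ^ (k + 2) := h3 k
    _ ≤ p ^ (k + 2) := Nat.pow_le_pow_left hp _
    _ = p ^ (k + 3 - 1) := by congr 1

theorem core_bound_odd {K : Type*} [Field K] [DecidableEq K] (p : ℕ) [Fact p.Prime] [CharP K p]
    (f : ℕ) (hf : 1 ≤ f) (q : ℕ) (hq : q = p ^ f) (m : ℕ) (hm : 3 ≤ m)
    (hne1 : (-1 : K) ≠ 1)
    (R : Finset K) (μ : K → ℕ)
    (hμ : ∀ x ∈ R, 1 ≤ μ x)
    (h0 : (0 : K) ∉ R)
    (hfr : ∀ x ∈ R, x ^ q ∈ R ∧ μ (x ^ q) = μ x)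
    (hin : ∀ x ∈ R, x⁻¹ ∈ R ∧ μ x⁻¹ = μ x)
    (hsum : ∑ x ∈ R, μ x = 2 * m + 1)
    (hpar : (-1 : K) ∈ R → Even (μ (-1))) :
    ∃ (N a : ℕ), 0 < N ∧ (∀ x ∈ R, x ^ N = 1) ∧
      (∀ x ∈ R, μ x ≤ p ^ a) ∧ (q - 1) * (N * p ^ a) ≤ q ^ (m + 1) := by
  have hpp : p.Prime := Fact.out
  have hp3 : 3 ≤ p := by
    have hp2 : p ≠ 2 := by
      intro hp
      apply hne1
      have : CharP K 2 := hp ▸ (inferInstance : CharP K p)
      exact CharTwo.neg_eq (1 : K)
    have := hpp.two_le
    omega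
  have hpodd : Odd p := hpp.odd_of_ne_two (by omega)
  have hpq : p ≤ q := by
    rw [hq]
    calc p = p ^ 1 := (pow_one p).symm
      _ ≤ p ^ f := Nat.pow_le_pow_right hpp.pos hf
  have hq2 : 2 ≤ q := by omega
  have hinj : ∀ x y : K, x ^ q = y ^ q → x = y := by
    intro x y h
    have hinj' : Function.Injective (iterateFrobenius K p f) := (iterateFrobenius K p f).injective
    apply hinj'
    rw [iterateFrobenius_def, iterateFrobenius_def, ← hq]
    exact h
  set X := R.filter (fun x => x ^ 2 ≠ 1) with hX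
  set Y := R.filter (fun x => ¬ x ^ 2 ≠ 1) with hY
  have hsplit : ∑ x ∈ X, μ x + ∑ x ∈ Y, μ x = 2 * m + 1 := by
    rw [hX, hY, Finset.sum_filter_add_sum_filter_not, hsum]
  have hmemX : ∀ x, x ∈ X ↔ x ∈ R ∧ x ^ 2 ≠ 1 := fun x => by rw [hX, Finset.mem_filter]
  have hmemY : ∀ x, x ∈ Y ↔ x ∈ R ∧ x ^ 2 = 1 := fun x => by
    rw [hY, Finset.mem_filter, not_not]
  have hXeven : Even (∑ x ∈ X, μ x) := by
    apply odd_pairs_even X μ (fun x hx => ((hmemX x).mp hx).2)
      (fun x hx h => h0 (h ▸ ((hmemX x).mp hx).1))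
    intro x hx
    rw [hmemX] at hx
    refine ⟨(hmemX _).mpr ⟨(hin x hx.1).1, fun h => hx.2 ?_⟩, (hin x hx.1).2⟩
    rw [inv_pow, inv_eq_one] at h
    exact h
  have hYsub : Y ⊆ {1, -1} := by
    intro x hx
    have h2 := ((hmemY x).mp hx).2
    have h1 : (x - 1) * (x + 1) = 0 := by linear_combination h2
    simp only [Finset.mem_insert, Finset.mem_singleton]
    rcases mul_eq_zero.mp h1 with h3 | h3
    · left; linear_combination h3
    · right; linear_combination h3
  have h1R : (1 : K) ∈ R ∧ Odd (μ 1) := by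
    by_contra hcon
    have hYeven : Even (∑ x ∈ Y, μ x) := by
      have hYsum : ∑ x ∈ Y, μ x = (if (1 : K) ∈ R then μ 1 else 0) +
          (if (-1 : K) ∈ R then μ (-1) else 0) := by
        have hYeq : Y = ({1, -1} : Finset K).filter (fun x => x ∈ R) := by
          ext x
          rw [hmemY, Finset.mem_filter]
          constructor
          · intro h
            exact ⟨hYsub ((hmemY x).mpr h), h.1⟩
          · intro h
            refine ⟨h.2, ?_⟩
            simp only [Finset.mem_insert, Finset.mem_singleton] at h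
            rcases h.1 with h | h <;> rw [h] <;> norm_num
        rw [hYeq, Finset.sum_filter, Finset.sum_pair (Ne.symm hne1)]
      rw [hYsum]
      apply Even.add
      · by_cases h : (1 : K) ∈ R
        · rw [if_pos h]
          by_contra hodd
          exact hcon ⟨h, Nat.not_even_iff_odd.mp hodd⟩
        · rw [if_neg h]; exact Even.zero
      · by_cases h : (-1 : K) ∈ R
        · rw [if_pos h]; exact hpar h
        · rw [if_neg h]; exact Even.zero
    have := hXeven.add hYeven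
    rw [hsplit] at this
    exact (Nat.not_even_iff_odd.mpr ⟨m, rfl⟩) this
  obtain ⟨h1R, h1odd⟩ := h1R
  set μ' : K → ℕ := fun x => if x = 1 then μ 1 - 1 else μ x with hμ'
  have hμ'1 : μ' 1 = μ 1 - 1 := by rw [hμ']; simp
  have hμ'ne : ∀ x, x ≠ 1 → μ' x = μ x := fun x hx => by rw [hμ']; simp [hx]
  set R' := R.filter (fun x => 1 ≤ μ' x) with hR'
  have hmemR' : ∀ x, x ∈ R' ↔ x ∈ R ∧ 1 ≤ μ' x := fun x => by rw [hR', Finset.mem_filter]
  have hne_mem : ∀ x ∈ R, x ≠ 1 → x ∈ R' := by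
    intro x hx hx1
    rw [hmemR', hμ'ne x hx1]
    exact ⟨hx, hμ x hx⟩
  have hsum' : ∑ x ∈ R', μ' x = 2 * m := by
    have h1 : ∑ x ∈ R', μ' x = ∑ x ∈ R, μ' x := by
      rw [hR', Finset.sum_filter]
      refine Finset.sum_congr rfl fun x _ => ?_
      split_ifs with h
      · rfl
      · omega
    have h2 : ∑ x ∈ R, μ' x + 1 = ∑ x ∈ R, μ x := by
      rw [← Finset.add_sum_erase R μ' h1R, ← Finset.add_sum_erase R μ h1R, hμ'1]
      have h3 : ∑ x ∈ R.erase 1, μ' x = ∑ x ∈ R.erase 1, μ x := by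
        refine Finset.sum_congr rfl fun x hx => ?_
        exact hμ'ne x (Finset.ne_of_mem_erase hx)
      rw [h3]
      have := hμ 1 h1R
      omega
    omega
  obtain ⟨N, a, c, hN, hc, hRN, hRa, hbound⟩ := core_bound p f hf q hq m R' μ'
    (fun x hx => ((hmemR' x).mp hx).2)
    (fun h => h0 ((hmemR' 0).mp h).1)
    (by
      intro x hx
      by_cases hx1 : x = 1
      · subst hx1
        rw [one_pow]
        exact ⟨hx, rfl⟩
      · have hxR := ((hmemR' x).mp hx).1
        have hxq1 : x ^ q ≠ 1 := by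
          intro h
          apply hx1
          apply hinj
          rw [h, one_pow]
        refine ⟨hne_mem _ (hfr x hxR).1 hxq1, ?_⟩
        rw [hμ'ne _ hxq1, hμ'ne _ hx1]
        exact (hfr x hxR).2)
    (by
      intro x hx
      by_cases hx1 : x = 1
      · subst hx1
        rw [inv_one]
        exact ⟨hx, rfl⟩
      · have hxR := ((hmemR' x).mp hx).1
        have hxi1 : x⁻¹ ≠ 1 := by
          intro h
          apply hx1
          rw [inv_eq_one] at h
          exact h
        refine ⟨hne_mem _ (hin x hxR).1 hxi1, ?_⟩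
        rw [hμ'ne _ hxi1, hμ'ne _ hx1]
        exact (hin x hxR).2)
    hsum'
    (by
      intro _ hm1
      rw [hμ'ne _ hne1]
      exact hpar ((hmemR' _).mp hm1).1)
  rcases hc with rfl | ⟨rfl, hall⟩
  · refine ⟨N, a, hN, ?_, ?_, hbound⟩
    · intro x hx
      by_cases hx1 : x = 1
      · rw [hx1, one_pow]
      · exact hRN x (hne_mem x hx hx1)
    · intro x hx
      by_cases hx1 : x = 1
      · subst hx1
        by_cases h1R' : (1 : K) ∈ R'
        · have h2 := hRa 1 h1R'
          rw [hμ'1] at h2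
          have hpa : Odd (p ^ a) := hpodd.pow
          obtain ⟨k, hk⟩ := h1odd
          obtain ⟨l, hl⟩ := hpa
          omega
        · have : ¬ 1 ≤ μ' 1 := fun h => h1R' ((hmemR' 1).mpr ⟨h1R, h⟩)
          rw [hμ'1] at this
          have h3 : 1 ≤ p ^ a := Nat.one_le_pow _ _ hpp.pos
          omega
      · have := hRa x (hne_mem x hx hx1)
        rw [hμ'ne x hx1] at this
        exact this
  · have h1R' : (1 : K) ∉ R' := fun h => hne1 (hall 1 h).symm
    have hμ1 : μ 1 = 1 := by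
      have : ¬ 1 ≤ μ' 1 := fun h => h1R' ((hmemR' 1).mpr ⟨h1R, h⟩)
      rw [hμ'1] at this
      have := hμ 1 h1R
      omega
    have hRvals : ∀ x ∈ R, x = 1 ∨ x = -1 := by
      intro x hx
      by_cases hx1 : x = 1
      · left; exact hx1
      · right; exact hall x (hne_mem x hx hx1)
    have hμle : ∀ x ∈ R, μ x ≤ 2 * m := by
      intro x hx
      have := Finset.single_le_sum (f := μ) (fun x _ => Nat.zero_le _) hx
      rw [hsum] at this
      rcases hRvals x hx with h | h
      · rw [h, hμ1]; omega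
      · have h2 : μ 1 + μ x ≤ ∑ y ∈ R, μ y := by
          have hne : (1 : K) ≠ x := by rw [h]; exact Ne.symm hne1
          rw [← Finset.sum_pair hne]
          apply Finset.sum_le_sum_of_subset
          intro y hy
          simp only [Finset.mem_insert, Finset.mem_singleton] at hy
          rcases hy with rfl | rfl
          · exact h1R
          · exact hx
        rw [hsum, hμ1] at h2
        omega
    refine ⟨2, Nat.clog p (2 * m), by norm_num, ?_, ?_, ?_⟩
    · intro x hx
      rcases hRvals x hx with h | h <;> rw [h] <;> norm_num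
    · intro x hx
      exact (hμle x hx).trans (Nat.le_pow_clog (by omega) _)
    · have h3 : p ^ Nat.clog p (2 * m) ≤ q ^ (m - 1) :=
        (Nat.pow_le_pow_right hpp.pos (odd_clog p m hp3 hm)).trans (Nat.pow_le_pow_left hpq _)
      calc (q - 1) * (2 * p ^ Nat.clog p (2 * m)) ≤ q * (q * q ^ (m - 1)) :=
            Nat.mul_le_mul (by omega) (Nat.mul_le_mul hq2 h3)
        _ = q ^ (m - 1 + 2) := by ring
        _ = q ^ (m + 1) := by congr 1; omega

end Cfsg.Agent.Lib.Helper1.MEO
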