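import Mathlib
import Cfsg.Prelude.Def_Classical
import Cfsg.Agent.Lib.Helper1.MEO.Asm
import Cfsg.Agent.Lib.Helper1.MEO.Odd
import Cfsg.Agent.Lib.helper8.MEOO1
import Cfsg.Agent.Lib.helper8.MEOO2
import Cfsg.Agent.Lib.Helper11.MEOO3
import Cfsg.Agent.Lib.Helper9.MEOO4
import Cfsg.Agent.Lib.Helper9.MEOO5
import Cfsg.Agent.Lib.Helper9.MEOO6

set_option autoImplicit false

namespace Cfsg.Agent.Lib.Helper1.MEO

open Polynomial Matrix

theorem two_ne_zero_of_odd_card {F : Type*} [Field F] [Fintype F] (hodd : Odd (Fintype.card F)) :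
    (2 : F) ≠ 0 := by
  intro h2
  have hc : ((Fintype.card F : ℕ) : F) = 0 := Nat.cast_card_eq_zero F
  obtain ⟨k, hk⟩ := hodd
  rw [hk] at hc
  push_cast at hc
  rw [h2, zero_mul, zero_add] at hc
  exact one_ne_zero hc

theorem matrix_bound_odd {F : Type*} [Field F] [Fintype F] {ι : Type*} [Fintype ι] [DecidableEq ι]
    (m : ℕ) (hm : 3 ≤ m) (hodd : Odd (Fintype.card F)) (hι : Fintype.card ι = 2 * m + 1)
    (A : Matrix ι ι F) (hdet : A.det = 1)
    (hinv : ∀ ν : AlgebraicClosure F, ν ≠ 0 →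
      (A.map (algebraMap F (AlgebraicClosure F))).charpoly.rootMultiplicity ν⁻¹ =
        (A.map (algebraMap F (AlgebraicClosure F))).charpoly.rootMultiplicity ν) :
    ∃ j : ℕ, 0 < j ∧ (A ^ j = 1 ∨ A ^ j = -1) ∧
      (Fintype.card F - 1) * j ≤ Fintype.card F ^ (m + 1) := by
  classical
  obtain ⟨p, hpc⟩ := CharP.exists F
  have : CharP F p := hpc
  have hpp : p.Prime := CharP.char_is_prime F p
  have : Fact p.Prime := ⟨hpp⟩
  have : CharP (AlgebraicClosure F) p :=
    charP_of_injective_algebraMap (algebraMap F (AlgebraicClosure F)).injective p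
  obtain ⟨n, -, hcard⟩ := FiniteField.card F p
  set K := AlgebraicClosure F with hK
  set AK := A.map (algebraMap F K) with hAK
  have hne1 : (-1 : K) ≠ 1 := by
    intro h
    have h2F := two_ne_zero_of_odd_card hodd
    apply h2F
    apply (algebraMap F K).injective
    rw [map_zero, map_ofNat]
    linear_combination -h
  obtain ⟨h1, h2, h3, h4, h5, h6⟩ := roots_data (K := K) A hdet hinv
  have hne : AK.charpoly ≠ 0 := (Matrix.charpoly_monic AK).ne_zero
  obtain ⟨N, a, hN, hRN, hRa, hbound⟩ := core_bound_odd (K := K) p (n : ℕ) n.pos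
    (Fintype.card F) hcard m hm hne1 AK.charpoly.roots.toFinset
    (fun x => AK.charpoly.rootMultiplicity x)
    h1 h2 h3 (fun x hx => ⟨h4 x hx, hinv x (fun h => h2 (h ▸ hx))⟩) (by rw [h5, hι])
    (fun _ => h6 hne1)
  have hE := pow_eq_of_roots_mult p AK N a hN 1
    (fun μ hμ => hRN μ (Multiset.mem_toFinset.mpr ((Polynomial.mem_roots hne).mpr hμ)))
    (fun μ => by
      by_cases hμ : μ ∈ AK.charpoly.roots.toFinset
      · exact hRa μ hμ
      · have : ¬ AK.charpoly.IsRoot μ := fun h =>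
          hμ (Multiset.mem_toFinset.mpr ((Polynomial.mem_roots hne).mpr h))
        rw [Polynomial.rootMultiplicity_eq_zero this]
        exact Nat.zero_le _)
  have hinjM : Function.Injective
      (fun M : Matrix ι ι F => M.map (algebraMap F K)) :=
    Matrix.map_injective (algebraMap F K).injective
  have hpow : (A ^ (N * p ^ a)).map (algebraMap F K) = AK ^ (N * p ^ a) := by
    rw [hAK]
    exact Matrix.map_pow A (algebraMap F K) (N * p ^ a)
  refine ⟨N * p ^ a, Nat.mul_pos hN (pow_pos hpp.pos _), Or.inl ?_, hbound⟩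
  apply hinjM
  change (A ^ (N * p ^ a)).map (algebraMap F K) = (1 : Matrix ι ι F).map (algebraMap F K)
  rw [hpow, hE, one_pow, one_smul, Matrix.map_one _ (map_zero _) (map_one _)]

theorem pomega_bound {ι : Type} [Fintype ι] [DecidableEq ι] {F : Type*} [Field F] [Fintype F]
    (Q : (ι → F) → F) (m : ℕ)
    (hmat : ∀ g : Cfsg.isometryGroup F Q, g ∈ Cfsg.Omega F Q → ∃ j : ℕ, 0 < j ∧
      ((((g : Matrix.GeneralLinearGroup ι F) : Matrix ι ι F)) ^ j = 1 ∨
        (((g : Matrix.GeneralLinearGroup ι F) : Matrix ι ι F)) ^ j = -1) ∧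
      (Fintype.card F - 1) * j ≤ Fintype.card F ^ (m + 1))
    (x : Cfsg.POmega F Q) :
    (Fintype.card F - 1) * orderOf x ≤ Fintype.card F ^ (m + 1) := by
  obtain ⟨ω, rfl⟩ := QuotientGroup.mk_surjective x
  obtain ⟨j, hj, hA, hbound⟩ := hmat ω.1 ω.2
  have hcen : ω ^ j ∈ Subgroup.center (Cfsg.Omega F Q) := by
    rw [Subgroup.mem_center_iff]
    intro h
    apply Subtype.ext
    apply Subtype.ext
    apply Units.ext
    simp only [Subgroup.coe_mul, Subgroup.coe_pow, Units.val_mul, Units.val_pow_eq_pow_val]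
    rcases hA with hA | hA
    · rw [hA, mul_one, one_mul]
    · rw [hA, mul_neg, neg_mul, mul_one, one_mul]
  have hpow : (QuotientGroup.mk ω : Cfsg.POmega F Q) ^ j = 1 := by
    rw [← QuotientGroup.mk_pow]
    exact (QuotientGroup.eq_one_iff _).mpr hcen
  have hle : orderOf (QuotientGroup.mk ω : Cfsg.POmega F Q) ≤ j :=
    Nat.le_of_dvd hj (orderOf_dvd_of_pow_eq_one hpow)
  calc (Fintype.card F - 1) * orderOf (QuotientGroup.mk ω : Cfsg.POmega F Q)
      ≤ (Fintype.card F - 1) * j := Nat.mul_le_mul_left _ hle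
    _ ≤ _ := hbound

theorem pomega_result {F : Type*} [Field F] [Fintype F] (m : ℕ) :
    (3 ≤ m → Odd (Fintype.card F) → ∀ g : Cfsg.POmega F (Cfsg.quadFormOdd m F),
      (Fintype.card F - 1) * orderOf g ≤ Fintype.card F ^ (m + 1)) ∧
    (4 ≤ m → ∀ g : Cfsg.POmega F (Cfsg.quadFormPlus m F),
      (Fintype.card F - 1) * orderOf g ≤ Fintype.card F ^ (m + 1)) ∧
    (4 ≤ m → ∀ a b : F, (∀ z₁ z₂ : F, z₁ ^ 2 + a * z₁ * z₂ + b * z₂ ^ 2 = 0 → z₁ = 0 ∧ z₂ = 0) →
      ∀ g : Cfsg.POmega F (Cfsg.quadFormMinus (m - 1) F a b),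
      (Fintype.card F - 1) * orderOf g ≤ Fintype.card F ^ (m + 1)) := by
  refine ⟨?_, ?_, ?_⟩
  · intro hm hodd x
    obtain ⟨B, hBdet, hB⟩ := polar_odd m F (two_ne_zero_of_odd_card hodd)
    apply pomega_bound _ m _ x
    intro g hg
    exact matrix_bound_odd m hm hodd (by simp; ring) _
      (det_eq_one_of_mem_omega _ g hg)
      (fun ν hν => hinv_of_gram _ B hBdet (gram_of_isometry _ B hB g.1 g.2) ν hν)
  · intro hm x
    obtain ⟨B, hBdet, hB⟩ := polar_plus m F
    apply pomega_bound _ m _ x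
    intro g hg
    exact matrix_bound m (by simp; ring) _
      (det_eq_one_of_mem_omega _ g hg)
      (fun ν hν => hinv_of_gram _ B hBdet (gram_of_isometry _ B hB g.1 g.2) ν hν)
  · intro hm a b hab x
    obtain ⟨B, hBdet, hB⟩ := polar_minus (m - 1) F a b hab
    apply pomega_bound _ m _ x
    intro g hg
    exact matrix_bound m (by simp; omega) _
      (det_eq_one_of_mem_omega _ g hg)
      (fun ν hν => hinv_of_gram _ B hBdet (gram_of_isometry _ B hB g.1 g.2) ν hν)

end Cfsg.Agent.Lib.Helper1.MEO
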